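import Groth.Agent.WeilResLib.FlatDominant
import Groth.Agent.HopfFFLib.Injective
import Groth.Agent.HopfFFLib.Consequences
import Groth.Agent.HopfPointsLib.Extend
import Groth.Agent.FlatLib.FlatMisc
import Groth.Agent.GrpHomLib.FlatImage
import Groth.Agent.OrbitLib.ToAffineMain
import Groth.Agent.MultLiftLib.KerBot

/-!
# Schematically dominant homomorphisms to affine groups over a field
-/

set_option autoImplicit false
set_option linter.style.haveILetI false
set_option backward.isDefEq.respectTransparency false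
set_option maxHeartbeats 1600000

universe u

open CategoryTheory CategoryTheory.Limits MonoidalCategory CartesianMonoidalCategory AlgebraicGeometry
open Groth.Agent Groth.Agent.HomogDense Groth.Agent.GrpField
open scoped MonObj TensorProduct

noncomputable section

namespace Groth.Agent.GrpMonoAff

/-- A ring map into an algebra is flat when it is flat on a cofinal family of subalgebras. -/
theorem flat_of_subalgebras {k A M : Type u} [CommRing k] [CommRing A] [Algebra k A] [AddCommGroup M] [Module A M]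
    (h : ∀ s : Finset A, ∃ S : Subalgebra k A, (∀ x ∈ s, x ∈ S) ∧ Module.Flat ↥S M) : Module.Flat A M := by
  classical
  refine Module.Flat.of_forall_isTrivialRelation fun {l f x} hfx => ?_
  obtain ⟨S, hS, hflat⟩ := h (Finset.univ.image f)
  let f' : Fin l → S := fun i => ⟨f i, hS _ (Finset.mem_image_of_mem f (Finset.mem_univ i))⟩
  haveI := hflat
  obtain ⟨κ, a, y, h1, h2⟩ := Module.Flat.isTrivialRelation_of_sum_smul_eq_zero (f := f') (x := x) hfx
  refine ⟨κ, fun i j => (a i j : A), y, h1, fun j => ?_⟩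
  have := congrArg S.val (h2 j)
  rw [map_sum, map_zero] at this
  simpa [f'] using this

theorem krullDimLE_stalk_of_max {Q : Scheme.{u}} {c : Q} (hc : IsMaxPt c) :
    Ring.KrullDimLE 0 (Q.presheaf.stalk c) := by
  refine Ring.KrullDimLE.mk₀ fun P hP => ?_
  have hq : ∀ q : Spec (Q.presheaf.stalk c), q = IsLocalRing.closedPoint (Q.presheaf.stalk c) := fun q => by
    refine (Q.fromSpecStalk c).isEmbedding.injective ?_
    have hm : Q.fromSpecStalk c q ⤳ c := by
      have := Set.mem_range_self (f := (Q.fromSpecStalk c).base) q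
      rwa [Scheme.range_fromSpecStalk] at this
    rw [hc _ hm, Scheme.fromSpecStalk_closedPoint]
  have h := congrArg PrimeSpectrum.asIdeal (hq ⟨P, hP⟩)
  rw [show P = IsLocalRing.maximalIdeal _ from h]
  exact IsLocalRing.maximalIdeal.isMaximal _

/-- Flatness over an Artinian base from flatness of the self-product. -/
theorem flat_of_artinian {W Gc : Scheme.{u}} [IsAffine W] {O : CommRingCat.{u}} [IsArtinianRing O]
    (π : W ⟶ Gc) (s : Gc ⟶ Spec O) [IsSchemeTheoreticallyDominant (π ≫ s)] [QuasiCompact (π ≫ s)]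
    (h : Flat (pullback.snd (π ≫ s) (π ≫ s))) : Flat (π ≫ s) := by
  obtain ⟨φ, hφ⟩ := Spec.map_surjective (W.isoSpec.inv ≫ π ≫ s)
  let R := Γ(W, ⊤)
  letI : Algebra O R := φ.hom.toAlgebra
  have hg : π ≫ s = W.isoSpec.hom ≫ Spec.map φ := by rw [hφ, Iso.hom_inv_id_assoc]
  haveI hd : IsSchemeTheoreticallyDominant (Spec.map φ) := by rw [hφ]; infer_instance
  have hinj : Function.Injective (algebraMap O R) := by
    have h1 := (Spec.map φ).app_injective ⊤
    intro a b hab
    apply (ConcreteCategory.bijective_of_isIso (Scheme.ΓSpecIso O).inv).1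
    apply h1
    have e := fun c => congr($(Scheme.ΓSpecIso_inv_naturality φ) c)
    exact (e a).symm.trans ((congrArg (Scheme.ΓSpecIso R).inv (show φ a = φ b from hab)).trans (e b))
  have hf : Flat (pullback.snd (Spec.map φ) (Spec.map φ)) := by
    let m : pullback (π ≫ s) (π ≫ s) ⟶ pullback (Spec.map φ) (Spec.map φ) :=
      pullback.map _ _ _ _ W.isoSpec.hom W.isoSpec.hom (𝟙 _) (by rw [Category.comp_id, hg]) (by rw [Category.comp_id, hg])
    have e : inv m ≫ pullback.snd (π ≫ s) (π ≫ s) ≫ W.isoSpec.hom = pullback.snd (Spec.map φ) (Spec.map φ) := by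
      rw [IsIso.inv_comp_eq]
      simp [m]
    rw [← e]
    haveI := h
    infer_instance
  haveI : Module.Flat R (R ⊗[O] R) := by
    have hf' : Flat (pullback.snd (Spec.map (CommRingCat.ofHom (algebraMap O R)))
      (Spec.map (CommRingCat.ofHom (algebraMap O R)))) := hf
    have e : Flat ((pullbackSpecIso O R R).inv ≫ pullback.fst (Spec.map (CommRingCat.ofHom (algebraMap O R)))
        (Spec.map (CommRingCat.ofHom (algebraMap O R)))) := by
      haveI : Flat (pullback.fst (Spec.map (CommRingCat.ofHom (algebraMap O R)))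
          (Spec.map (CommRingCat.ofHom (algebraMap O R)))) := by
        rw [← pullbackSymmetry_hom_comp_snd]; infer_instance
      infer_instance
    rw [pullbackSpecIso_inv_fst] at e
    rw [← RingHom.flat_algebraMap_iff]
    exact (HasRingHomProperty.Spec_iff (P := @Flat)).1 e
  haveI := _root_.FlatLib.flat_of_baseChange_flat_artinian (R := O) (S := R) (M := R) hinj
  haveI : Flat (Spec.map φ) := (HasRingHomProperty.Spec_iff (P := @Flat)).2 (RingHom.flat_algebraMap_iff.2 ‹_›)
  rw [hg]
  infer_instance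

variable {k : Type u} [Field k] {G Q : Over (Spec (CommRingCat.of k))} [GrpObj G] [GrpObj Q]

/-- A flat base change of a morphism of pullbacks. -/
theorem flat_snd_of_kernelPair {A B W : Scheme.{u}} (f : A ⟶ B) (hff : Flat (pullback.snd f f)) (h : W ⟶ A) :
    Flat (pullback.snd f (h ≫ f)) := by
  rw [← pullbackLeftPullbackSndIso_inv_snd_snd f f h]
  infer_instance

/-- Over maximal points of a group of finite type the morphism is flat. -/
theorem flat_over_max [LocallyOfFiniteType Q.hom] (f : G ⟶ Q) [IsMonHom f] [QuasiCompact f.left]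
    [IsSchemeTheoreticallyDominant f.left] {c : Q.left} (hc : IsMaxPt c) :
    Flat (pullback.snd f.left (Q.left.fromSpecStalk c)) := by
  haveI : IsLocallyNoetherian Q.left := LocallyOfFiniteType.isLocallyNoetherian Q.hom
  haveI := krullDimLE_stalk_of_max hc
  haveI : IsArtinianRing (Q.left.presheaf.stalk c) := IsNoetherianRing.isArtinianRing_of_krullDimLE_zero
  haveI : Flat (Q.left.fromSpecStalk c) := RedFlatLib.flat_fromSpecStalk _ c
  let jc := Q.left.fromSpecStalk c
  let s := pullback.snd f.left jc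
  haveI : CompactSpace ↥(pullback f.left jc) := QuasiCompact.compactSpace_of_compactSpace s
  let 𝒲 := (pullback f.left jc).affineCover.finiteSubcover
  haveI : ∀ i, IsAffine (𝒲.X i) := fun i => inferInstanceAs (IsAffine ((pullback f.left jc).affineCover.X _))
  let π : (∐ 𝒲.X) ⟶ pullback f.left jc := Sigma.desc 𝒲.f
  haveI : Flat π := IsZariskiLocalAtSource.sigmaDesc fun i => inferInstance
  haveI : Surjective π := ⟨fun x => by
    obtain ⟨i, y, hy⟩ := 𝒲.exists_eq x
    exact ⟨(Sigma.ι 𝒲.X i) y, by rw [← Scheme.Hom.comp_apply, Sigma.ι_desc, hy]⟩⟩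
  haveI : IsSchemeTheoreticallyDominant π := ⟨Groth.Agent.MultLift.ker_eq_bot_of_flat_surjective π⟩
  haveI : IsSchemeTheoreticallyDominant s := inferInstance
  haveI : QuasiCompact (π ≫ s) := inferInstance
  have hker : Flat (pullback.snd f.left f.left) :=
    Groth.Agent.GrpHom.flat_kernelPair f (GrpField.flat_field _)
  let g := π ≫ s
  have h1 : Flat (pullback.snd s g) := by
    have e : g ≫ jc = (π ≫ pullback.fst f.left jc) ≫ f.left := by
      simp only [g, s, Category.assoc, pullback.condition]
    haveI := flat_snd_of_kernelPair f.left hker (π ≫ pullback.fst f.left jc)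
    haveI : Flat (pullback.snd f.left (g ≫ jc)) := by rw [e]; infer_instance
    rw [← pullbackLeftPullbackSndIso_hom_snd f.left jc g]
    infer_instance
  haveI : Flat (pullback.snd g g) := by
    have e : (pullback.map g g s g π (𝟙 _) (𝟙 _) (by simp [g]) (by simp)) ≫ pullback.snd s g = pullback.snd g g := by
      simp
    rw [← e]
    haveI : Flat (pullback.map g g s g π (𝟙 _) (𝟙 _) (by simp [g]) (by simp)) :=
      MorphismProperty.pullbackMap (P := @Flat) inferInstance inferInstance (by simp [g]) (by simp)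
    infer_instance
  haveI : Flat (π ≫ s) := flat_of_artinian π s ‹_›
  refine (Flat.iff_flat_stalkMap _).mpr fun x => ?_
  obtain ⟨w, rfl⟩ := π.surjective x
  exact FlatLib.flatAt_of_comp (FlatLib.flatAt_of_flat π w) (FlatLib.flatAt_of_flat (π ≫ s) w)

/-- A schematically dominant homomorphism to a group of finite type is flat. -/
theorem flat_of_schDominant [LocallyOfFiniteType Q.hom] (f : G ⟶ Q) [IsMonHom f] [QuasiCompact f.left]
    [IsSchemeTheoreticallyDominant f.left] : Flat f.left := by
  haveI : Surjective f.left := Groth.Agent.GrpHom.surjective_of_denseRange f f.left.denseRange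
  refine (Flat.iff_flat_stalkMap _).mpr fun x => ?_
  obtain ⟨z, hz, ha, hb⟩ := WeilRes.exists_mul_max_over f x
  let V : G.left → Over (Spec (CommRingCat.of k)) := fun c => Over.mk (Q.left.fromSpecStalk (f.left c) ≫ Q.hom)
  let W : G.left → Over (Spec (CommRingCat.of k)) := fun c =>
    Over.mk (pullback.fst f.left (Q.left.fromSpecStalk (f.left c)) ≫ G.hom)
  let iW : ∀ c, W c ⟶ G := fun c => Over.homMk (pullback.fst _ _) rfl
  let iV : ∀ c, V c ⟶ Q := fun c => Over.homMk (Q.left.fromSpecStalk (f.left c)) rfl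
  let fW : ∀ c, W c ⟶ V c := fun c => Over.homMk (pullback.snd _ _) (by
    show pullback.snd _ _ ≫ Q.left.fromSpecStalk _ ≫ Q.hom = pullback.fst _ _ ≫ G.hom
    rw [← pullback.condition_assoc, Over.w])
  have hcomm : ∀ c, iW c ≫ f = fW c ≫ iV c := fun c => by
    ext1
    exact pullback.condition
  haveI hiV : ∀ c, Flat (iV c).left := fun c => RedFlatLib.flat_fromSpecStalk _ _
  haveI hiW : ∀ c, Flat (iW c).left := fun c => by
    haveI := hiV c
    exact MorphismProperty.pullback_fst (P := @Flat) _ _ (RedFlatLib.flat_fromSpecStalk _ _)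
  have hmem : ∀ c, c ∈ Set.range (iW c).left.base := fun c => by
    obtain ⟨q, hq, -⟩ := Scheme.Pullback.exists_preimage_pullback (f := f.left)
      (g := Q.left.fromSpecStalk (f.left c)) c (IsLocalRing.closedPoint _) Scheme.fromSpecStalk_closedPoint.symm
    exact ⟨q, hq⟩
  let a := (fst G G).left z
  let b := (snd G G).left z
  have flatT : ∀ {A A' B B' : Over (Spec (CommRingCat.of k))} (g : A ⟶ A') (g' : B ⟶ B'),
      Flat g.left → Flat g'.left → Flat (g ⊗ₘ g').left := fun g g' hg hg' => by
    rw [Over.tensorHom_left]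
    exact MorphismProperty.pullbackMap (P := @Flat) hg hg' (Over.w g).symm (Over.w g').symm
  haveI h2 : Flat ((iW a ⊗ₘ iW b) ≫ μ[G] ≫ f).left := by
    rw [IsMonHom.mul_hom, ← Category.assoc, tensorHom_comp_tensorHom, hcomm, hcomm, ← tensorHom_comp_tensorHom,
      Over.comp_left, Over.comp_left]
    haveI := flatT _ _ (show Flat (fW a).left from flat_over_max f ha) (show Flat (fW b).left from flat_over_max f hb)
    haveI := flatT _ _ (hiV a) (hiV b)
    haveI : Flat μ[Q].left := WeilRes.flat_mul Q
    infer_instance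
  haveI h1 := flatT _ _ (hiW a) (hiW b)
  obtain ⟨w, hw⟩ : z ∈ Set.range (iW a ⊗ₘ iW b).left.base := by
    rw [Over.tensorHom_left]
    exact (Set.ext_iff.mp (Scheme.Pullback.range_map _ _ _ _ _ _ _ _ _) z).mpr ⟨hmem a, hmem b⟩
  haveI : Flat μ[G].left := WeilRes.flat_mul G
  have h3 : FlatLib.FlatAt ((iW a ⊗ₘ iW b).left ≫ μ[G].left) w := FlatLib.flatAt_of_flat _ w
  have h4 : FlatLib.FlatAt (((iW a ⊗ₘ iW b).left ≫ μ[G].left) ≫ f.left) w := by
    have h := FlatLib.flatAt_of_flat ((iW a ⊗ₘ iW b) ≫ μ[G] ≫ f).left w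
    rw [FlatLib.flatAt_congr (show ((iW a ⊗ₘ iW b) ≫ μ[G] ≫ f).left =
      ((iW a ⊗ₘ iW b).left ≫ μ[G].left) ≫ f.left by simp only [Over.comp_left, Category.assoc])] at h
    exact h
  have h5 := FlatLib.flatAt_of_comp h3 h4
  rwa [show ((iW a ⊗ₘ iW b).left ≫ μ[G].left) w = x by rw [Scheme.Hom.comp_apply, hw, hz]] at h5

open CoactBr in
/-- A schematically dominant homomorphism to an affine group is flat. -/
theorem flat_to_hopf {A : Type u} [CommRing A] [HopfAlgebra k A] (p : G ⟶ sp k A) [IsMonHom p]
    [QuasiCompact p.left] [IsSchemeTheoreticallyDominant p.left] : Flat p.left := by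
  classical
  let 𝒰 := G.left.affineOpenCover
  rw [IsZariskiLocalAtSource.iff_of_openCover (P := @Flat) 𝒰.openCover]
  intro i
  obtain ⟨φ, hφ⟩ := Spec.map_surjective (𝒰.openCover.f i ≫ p.left)
  rw [← hφ, HasRingHomProperty.Spec_iff (P := @Flat)]
  letI : Algebra A (𝒰.X i) := φ.hom.toAlgebra
  show Module.Flat A (𝒰.X i)
  refine flat_of_subalgebras (k := k) fun s => ?_
  have hsub : ∀ t : Finset A, ∃ B : Subalgebra k A, (∀ x ∈ t, x ∈ B) ∧ B.FG ∧ Groth.Agent.HopfFF.IsSubHopf k A B := by
    intro t
    induction t using Finset.induction with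
    | empty =>
      obtain ⟨B, -, h1, h2⟩ := Groth.Agent.HopfFF.exists_fg_isSubHopf (k := k) (0 : A)
      exact ⟨B, by simp, h1, h2⟩
    | insert x t _ ih =>
      obtain ⟨B, hB, h1, h2⟩ := ih
      obtain ⟨B', hx, h1', h2'⟩ := Groth.Agent.HopfFF.exists_fg_isSubHopf (k := k) x
      refine ⟨B' ⊔ B, fun y hy => ?_, h1'.sup h1, Groth.Agent.HopfPoints.isSubHopf_sup h2' h2⟩
      obtain rfl | hy := Finset.mem_insert.1 hy
      · exact (le_sup_left : B' ≤ B' ⊔ B) hx
      · exact (le_sup_right : B ≤ B' ⊔ B) (hB y hy)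
  obtain ⟨B, hB, hfg, hhopf⟩ := hsub s
  refine ⟨B, hB, ?_⟩
  letI : HopfAlgebra k ↥B := Groth.Agent.HopfFF.hopfAlgebra hhopf
  haveI : Algebra.FiniteType k ↥B := (Subalgebra.fg_iff_finiteType _).1 hfg
  haveI : IsMonHom (pt B.val) :=
    Groth.Agent.DiagRep.isMonHom_pt _ rfl (AlgHom.ext fun b => Groth.Agent.HopfFF.map_δB hhopf b)
  haveI : IsSchemeTheoreticallyDominant (pt B.val).left :=
    ⟨OrbitLib.ToAffine.ker_SpecMap_eq_bot _ Subtype.val_injective⟩
  haveI : QuasiCompact (pt B.val).left :=
    inferInstanceAs (QuasiCompact (Spec.map (CommRingCat.ofHom B.val.toRingHom)))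
  haveI : LocallyOfFiniteType (sp k ↥B).hom := by
    show LocallyOfFiniteType (Spec.map (CommRingCat.ofHom (algebraMap k ↥B)))
    rw [HasRingHomProperty.Spec_iff (P := @LocallyOfFiniteType)]
    exact RingHom.finiteType_algebraMap.mpr inferInstance
  haveI : QuasiCompact (p ≫ pt B.val).left := by rw [Over.comp_left]; infer_instance
  haveI : IsSchemeTheoreticallyDominant (p ≫ pt B.val).left := by rw [Over.comp_left]; infer_instance
  haveI := flat_of_schDominant (p ≫ pt B.val)
  have e : Spec.map (CommRingCat.ofHom B.val.toRingHom ≫ φ) = 𝒰.openCover.f i ≫ (p ≫ pt B.val).left := by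
    rw [Spec.map_comp, hφ, Over.comp_left, Category.assoc]
    rfl
  have hflat : Flat (Spec.map (CommRingCat.ofHom B.val.toRingHom ≫ φ)) := by rw [e]; infer_instance
  exact RingHom.flat_algebraMap_iff.1 ((HasRingHomProperty.Spec_iff (P := @Flat)).1 hflat)

end Groth.Agent.GrpMonoAff

end
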